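import Groth.Agent.ParaFX.Closed
import Groth.Agent.H23.PullPush
import Groth.Prelude.Def_FEt

/-!
Finite locally free modules and parafactorial pairs in terms of sections of the structure sheaf.
-/

universe u

open CategoryTheory CategoryTheory.Limits AlgebraicGeometry TopologicalSpace Opposite

set_option linter.style.haveILetI false
set_option linter.unusedSectionVars false

namespace Groth.Agent.ParaFX

noncomputable section

variable {U V : Scheme.{u}}

/-- The structure sheaf does not see the complement of the range of `j`. -/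
def FnBij (j : U ⟶ V) [IsOpenImmersion j] : Prop :=
  ∀ O : V.Opens, Function.Bijective (V.presheaf.map (homOfLE (inf_le_left : O ⊓ j.opensRange ≤ O)).op)

theorem FnBij.app {j : U ⟶ V} [IsOpenImmersion j] (h : FnBij j) (O : V.Opens) :
    Function.Bijective (j.app O) := by
  let O' := O ⊓ j.opensRange
  have he : j ''ᵁ j ⁻¹ᵁ O = O' := (j.image_preimage_eq_opensRange_inf O).trans (inf_comm _ _)
  have hp : j ⁻¹ᵁ O = j ⁻¹ᵁ O' := by
    ext x
    exact ⟨fun hx => ⟨hx, x, rfl⟩, fun hx => hx.1⟩
  haveI h1 : IsIso (V.presheaf.map (homOfLE (inf_le_left : O ⊓ j.opensRange ≤ O)).op) :=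
    (ConcreteCategory.isIso_iff_bijective _).2 (h O)
  haveI h2 : IsIso (j.app O') := by
    rw [← he]
    have : IsIso ((j.appIso (j ⁻¹ᵁ O)).inv ≫ j.app (j ''ᵁ j ⁻¹ᵁ O)) := by
      rw [Scheme.Hom.appIso_inv_app]
      infer_instance
    exact IsIso.of_isIso_comp_left (j.appIso (j ⁻¹ᵁ O)).inv _
  have key : j.app O ≫ U.presheaf.map (eqToHom hp.symm).op =
      V.presheaf.map (homOfLE (inf_le_left : O ⊓ j.opensRange ≤ O)).op ≫ j.app O' := by
    rw [Scheme.Hom.naturality]
    rfl
  haveI : IsIso (j.app O ≫ U.presheaf.map (eqToHom hp.symm).op) := by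
    rw [key]; exact IsIso.comp_isIso' h1 h2
  haveI := IsIso.of_isIso_comp_right (j.app O) (U.presheaf.map (eqToHom hp.symm).op)
  exact ConcreteCategory.bijective_of_isIso (j.app O)

theorem sectBij_of_isFinLocFree {j : U ⟶ V} [IsOpenImmersion j] (h : FnBij j) {E : V.Modules}
    (hE : FlatMod.IsFinLocFree E) : SectBij j E := by
  rw [sectBij_iff_isIso_unit]
  haveI := H23.PullPush.isIso_unit_of_isFinLocFree j h.app E hE
  have heq := Adjunction.unit_leftAdjointUniq_hom_app (Scheme.Modules.restrictAdjunction j)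
    (Scheme.Modules.pullbackPushforwardAdjunction j) E
  haveI : IsIso ((Scheme.Modules.restrictAdjunction j).unit.app E ≫
      (Scheme.Modules.pushforward j).map (((Scheme.Modules.restrictAdjunction j).leftAdjointUniq
        (Scheme.Modules.pullbackPushforwardAdjunction j)).hom.app E)) := by
    rw [heq]; infer_instance
  exact IsIso.of_isIso_comp_right _ ((Scheme.Modules.pushforward j).map
    (((Scheme.Modules.restrictAdjunction j).leftAdjointUniq
      (Scheme.Modules.pullbackPushforwardAdjunction j)).hom.app E))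

variable {X : Scheme.{u}}

/-- Extending finite locally free modules from an open. -/
theorem finLocFree_extends_iff (T : X.Opens)
    (h : ∀ O : X.Opens, Function.Bijective (X.presheaf.map (homOfLE (inf_le_left : O ⊓ T ≤ O)).op))
    (F : (T : Scheme.{u}).Modules) :
    ((∃ E : X.Modules, FlatMod.IsFinLocFree E ∧ Nonempty (E.restrict T.ι ≅ F)) ↔
        FlatMod.IsFinLocFree ((Scheme.Modules.pushforward T.ι).obj F)) ∧
      (∀ E : X.Modules, FlatMod.IsFinLocFree E → Nonempty (E.restrict T.ι ≅ F) →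
        Nonempty (E ≅ (Scheme.Modules.pushforward T.ι).obj F)) := by
  have hj : FnBij T.ι := fun O => by
    have := h O
    rw [← ConcreteCategory.isIso_iff_bijective] at this ⊢
    have he : O ⊓ T.ι.opensRange = O ⊓ T := by rw [Scheme.Opens.opensRange_ι]
    haveI := this
    rw [show (homOfLE (inf_le_left : O ⊓ T.ι.opensRange ≤ O)).op =
      (homOfLE (inf_le_left : O ⊓ T ≤ O)).op ≫ (homOfLE he.le).op from rfl, X.presheaf.map_comp]
    haveI : IsIso (X.presheaf.map (homOfLE he.le).op) := by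
      rw [show homOfLE he.le = eqToHom he from rfl]
      infer_instance
    infer_instance
  have key : ∀ E : X.Modules, FlatMod.IsFinLocFree E → Nonempty (E.restrict T.ι ≅ F) →
      Nonempty (E ≅ (Scheme.Modules.pushforward T.ι).obj F) := fun E hE ⟨e⟩ =>
    ⟨isoPushforward T.ι (sectBij_of_isFinLocFree hj hE) ≪≫ (Scheme.Modules.pushforward T.ι).mapIso e⟩
  refine ⟨⟨fun ⟨E, hE, he⟩ => ?_, fun hF => ⟨_, hF, ⟨restrictPushforward T.ι F⟩⟩⟩, key⟩
  obtain ⟨e⟩ := key E hE he
  exact H23.PullPush.isFinLocFree_of_iso e hE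

theorem fnBij_homOfLE (Y : Closeds X) (h : ∀ O : X.Opens,
      Function.Bijective (X.presheaf.map (homOfLE (inf_le_left : O ⊓ Y.compl ≤ O)).op))
    (T : X.Opens) : FnBij (X.homOfLE (inf_le_left : T ⊓ Y.compl ≤ T)) := fun O => by
  have := h (T.ι ''ᵁ O)
  rw [← ConcreteCategory.isIso_iff_bijective] at this ⊢
  have he : T.ι ''ᵁ (O ⊓ (X.homOfLE (inf_le_left : T ⊓ Y.compl ≤ T)).opensRange) = T.ι ''ᵁ O ⊓ Y.compl := by
    rw [opensRange_homOfLE_compl]
    ext x
    exact ⟨fun ⟨y, ⟨h1, h2⟩, e⟩ => ⟨⟨y, h1, e⟩, e ▸ h2⟩,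
      fun ⟨⟨y, h1, e⟩, h2⟩ => ⟨y, ⟨h1, show T.ι y ∈ Y.compl from (show T.ι y = x from e) ▸ h2⟩, e⟩⟩
  haveI := this
  haveI : IsIso (X.presheaf.map (eqToHom he).op) := inferInstance
  show IsIso (X.presheaf.map (T.ι.opensFunctor.map (homOfLE inf_le_left)).op)
  rw [show (T.ι.opensFunctor.map (homOfLE
      (inf_le_left : O ⊓ (X.homOfLE (inf_le_left : T ⊓ Y.compl ≤ T)).opensRange ≤ O))).op =
    (homOfLE (inf_le_left : T.ι ''ᵁ O ⊓ Y.compl ≤ T.ι ''ᵁ O)).op ≫ (eqToHom he).op from rfl,
    X.presheaf.map_comp]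
  infer_instance

theorem bijective_of_pair (Y : Closeds X) (h : ParaF.IsParafactorialPair X Y) (O : X.Opens) :
    Function.Bijective (X.presheaf.map (homOfLE (inf_le_left : O ⊓ Y.compl ≤ O)).op) := by
  have hc := (good_of_pair Y h O).closed (Coh.structureModule (O : Scheme.{u}))
    (fun x => ⟨⊤, trivial, ⟨Scheme.Modules.restrictUnitIso _⟩⟩) ⊤ _ inf_le_left rfl
  rw [ConcreteCategory.isIso_iff_bijective] at hc
  have hc' : Function.Bijective (X.presheaf.map (O.ι.opensFunctor.map (homOfLE
    (inf_le_left : ⊤ ⊓ (X.homOfLE (inf_le_left : O ⊓ Y.compl ≤ O)).opensRange ≤ ⊤))).op) := hc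
  rw [← ConcreteCategory.isIso_iff_bijective] at hc' ⊢
  have e1 : O.ι ''ᵁ ⊤ = O := O.ι_image_top
  have e2 : O.ι ''ᵁ (⊤ ⊓ (X.homOfLE (inf_le_left : O ⊓ Y.compl ≤ O)).opensRange) = O ⊓ Y.compl := by
    rw [top_inf_eq, opensRange_homOfLE_compl, Scheme.Hom.image_preimage_eq_opensRange_inf,
      Scheme.Opens.opensRange_ι]
  haveI := hc'
  haveI : IsIso (X.presheaf.map (eqToHom e1).op) := inferInstance
  haveI : IsIso (X.presheaf.map (eqToHom e2.symm).op) := inferInstance
  rw [show (homOfLE (inf_le_left : O ⊓ Y.compl ≤ O)).op = (eqToHom e1).op ≫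
    (O.ι.opensFunctor.map (homOfLE
      (inf_le_left : ⊤ ⊓ (X.homOfLE (inf_le_left : O ⊓ Y.compl ≤ O)).opensRange ≤ ⊤))).op ≫
      (eqToHom e2.symm).op from rfl, X.presheaf.map_comp, X.presheaf.map_comp]
  infer_instance

theorem isParafactorialPair_iff (Y : Closeds X) :
    ParaF.IsParafactorialPair X Y ↔
      ((∀ V : X.Opens, Function.Bijective (X.presheaf.map (homOfLE (inf_le_left : V ⊓ Y.compl ≤ V)).op)) ∧
        ∀ (V : X.Opens) (L : ((V ⊓ Y.compl : X.Opens) : Scheme.{u}).Modules), PicF.IsInvertible L →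
          PicF.IsInvertible ((Scheme.Modules.pushforward (X.homOfLE (inf_le_left : V ⊓ Y.compl ≤ V))).obj L)) :=
  ⟨fun h => ⟨bijective_of_pair Y h, fun T => (good_of_pair Y h T).push⟩,
    fun ⟨h, hp⟩ => isParafactorialPair_of_good _ fun T =>
      ⟨fun _ hL => sectBij_of_isFinLocFree (fnBij_homOfLE Y h T)
        (H23.PullPush.isFinLocFree_of_isInvertible hL), hp T⟩⟩

theorem mem_closedPoint_eq_top {A : Type u} [CommRing A] [IsLocalRing A]
    {O : (Spec (CommRingCat.of A)).Opens} (h : IsLocalRing.closedPoint A ∈ O) : O = ⊤ := by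
  ext x
  exact ⟨fun _ => trivial, fun _ => (IsLocalRing.specializes_closedPoint x).mem_open O.isOpen h⟩

theorem picTrivial_spec_local (A : Type u) [CommRing A] [IsLocalRing A]
    (L : (Spec (CommRingCat.of A)).Modules) (hL : PicF.IsInvertible L) :
    Nonempty (L ≅ Coh.structureModule (Spec (CommRingCat.of A))) := by
  obtain ⟨T, hT, ⟨e⟩⟩ := hL (IsLocalRing.closedPoint A)
  have := mem_closedPoint_eq_top hT
  subst this
  let X := Spec (CommRingCat.of A)
  let i := (X.topIso).inv
  have hi : i ≫ (⊤ : X.Opens).ι = 𝟙 X := X.topIso.inv_hom_id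
  exact ⟨(Scheme.Modules.restrictFunctorId.app L).symm ≪≫
    ((Scheme.Modules.restrictFunctorCongr hi).app L).symm ≪≫
    (restrictTwice L i (⊤ : X.Opens).ι).symm ≪≫ (Scheme.Modules.restrictFunctor i).mapIso e ≪≫
    Scheme.Modules.restrictUnitIso i⟩

theorem isParafactorialLocalRing_iff (A : Type u) [CommRing A] [IsLocalRing A] :
    ParaF.IsParafactorialLocalRing A ↔
      (Function.Bijective ((Spec (CommRingCat.of A)).presheaf.map
          (homOfLE (le_top : FEt.puncturedSpec A ≤ ⊤)).op) ∧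
        ParaF.PicTrivial (FEt.puncturedSpec A : Scheme.{u})) := by
  let X := Spec (CommRingCat.of A)
  let Y : Closeds X := ⟨{IsLocalRing.closedPoint A}, IsLocalRing.isClosed_singleton_closedPoint A⟩
  have hYc : Y.compl = FEt.puncturedSpec A := rfl
  let P := FEt.puncturedSpec A
  let j := X.homOfLE (inf_le_left : (⊤ : X.Opens) ⊓ Y.compl ≤ ⊤)
  let a := (⊤ : X.Opens).ι
  have htop : (⊤ : X.Opens) ⊓ Y.compl = P := top_inf_eq _
  constructor
  · intro h
    refine ⟨?_, fun L hL => ?_⟩
    · have := bijective_of_pair Y h ⊤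
      rw [← ConcreteCategory.isIso_iff_bijective] at this ⊢
      haveI := this
      rw [show (homOfLE (le_top : FEt.puncturedSpec A ≤ ⊤)).op =
        (homOfLE (inf_le_left : (⊤ : X.Opens) ⊓ Y.compl ≤ ⊤)).op ≫ (eqToHom htop.symm).op from rfl,
        X.presheaf.map_comp]
      infer_instance
    · have hg : Good P.ι := good_of_openImmersion Y h (𝟙 X) P.ι (by
        rw [Scheme.Opens.opensRange_ι]; rfl)
      obtain ⟨L', hL', ⟨e⟩⟩ := hg.invRestrictEquiv.2 L hL
      obtain ⟨e'⟩ := picTrivial_spec_local A L' hL'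
      exact ⟨e.symm ≪≫ (Scheme.Modules.restrictFunctor P.ι).mapIso e' ≪≫
        Scheme.Modules.restrictUnitIso P.ι⟩
  · rintro ⟨hb, hpic⟩
    have hall : ∀ O : X.Opens,
        Function.Bijective (X.presheaf.map (homOfLE (inf_le_left : O ⊓ Y.compl ≤ O)).op) := by
      intro O
      rw [← ConcreteCategory.isIso_iff_bijective] at hb ⊢
      haveI := hb
      by_cases hO : IsLocalRing.closedPoint A ∈ O
      · have hOt := mem_closedPoint_eq_top hO
        subst hOt
        rw [show (homOfLE (inf_le_left : (⊤ : X.Opens) ⊓ Y.compl ≤ ⊤)).op =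
          (homOfLE (le_top : P ≤ ⊤)).op ≫ (eqToHom htop).op from rfl, X.presheaf.map_comp]
        infer_instance
      · have he : O ⊓ Y.compl = O := inf_eq_left.2 fun x hx hxY => hO (by
          rwa [show x = IsLocalRing.closedPoint A from hxY] at hx)
        rw [show homOfLE (inf_le_left : O ⊓ Y.compl ≤ O) = eqToHom he from rfl]
        infer_instance
    refine (isParafactorialPair_iff Y).2 ⟨hall, fun T L hL => ?_⟩
    by_cases hT : IsLocalRing.closedPoint A ∈ T
    · have hTt := mem_closedPoint_eq_top hT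
      subst hTt
      have hsb : SectBij j (Coh.structureModule _) :=
        sectBij_of_isFinLocFree (fnBij_homOfLE Y hall ⊤) (H23.PullPush.isFinLocFree_of_isInvertible
          fun x => ⟨⊤, trivial, ⟨Scheme.Modules.restrictUnitIso _⟩⟩)
      let b := X.homOfLE htop.ge
      obtain ⟨e⟩ := hpic (L.restrict b) (isInvertible_restrict b hL)
      let b' := X.homOfLE htop.le
      have hbb : b' ≫ b = 𝟙 _ := by simp [b, b']
      have e1 : (Coh.structureModule _).restrict j ≅ L :=
        Scheme.Modules.restrictUnitIso j ≪≫ (Scheme.Modules.restrictUnitIso b').symm ≪≫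
          (Scheme.Modules.restrictFunctor b').mapIso e.symm ≪≫ restrictTwice L b' b ≪≫
          (Scheme.Modules.restrictFunctorCongr hbb).app L ≪≫ Scheme.Modules.restrictFunctorId.app L
      exact isInvertible_of_iso (isoPushforward j hsb ≪≫ (Scheme.Modules.pushforward j).mapIso e1)
        fun x => ⟨⊤, trivial, ⟨Scheme.Modules.restrictUnitIso _⟩⟩
    · have he : T ⊓ Y.compl = T := inf_eq_left.2 fun x hx hxY => hT (by
        rwa [show x = IsLocalRing.closedPoint A from hxY] at hx)
      let k := X.homOfLE (inf_le_left : T ⊓ Y.compl ≤ T)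
      haveI : IsIso k := ⟨X.homOfLE he.ge, by simp [k], by simp [k]⟩
      have hsb : SectBij k (L.restrict (inv k)) := fun O O' hle hO' => by
        refine isIso_map_of_eq _ hle ?_
        rw [hO', Scheme.Hom.opensRange_of_isIso, inf_top_eq]
      exact isInvertible_of_iso (isoPushforward k hsb ≪≫ (Scheme.Modules.pushforward k).mapIso
        (restrictTwice L k (inv k) ≪≫ (Scheme.Modules.restrictFunctorCongr (IsIso.hom_inv_id k)).app L ≪≫
          Scheme.Modules.restrictFunctorId.app L)) (isInvertible_restrict (inv k) hL)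

end

end Groth.Agent.ParaFX
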