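import Groth.Agent.CDiv6.Normal
import Groth.Agent.InvUfdLib.Trivial
import Groth.Agent.Hartogs.Basic
import Groth.Agent.ParaFX.Functions

/-!
# Normal and factorial local rings of dimension at least two
-/

set_option autoImplicit false

universe u

open CategoryTheory AlgebraicGeometry TopologicalSpace IsLocalRing

namespace Groth.Agent.ParaFX

/-- A normal Noetherian local domain of dimension at least two has depth at least two. -/
theorem two_le_depth_of_normal (A : Type u) [CommRing A] [IsDomain A] [IsNoetherianRing A]
    [IsLocalRing A] [IsIntegrallyClosed A] (hdim : (2 : WithBot ℕ∞) ≤ ringKrullDim A) :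
    (2 : ℕ∞) ≤ LocCoh.depth A A := by
  have hnf : ¬ IsField A := fun h => by
    rw [ringKrullDim_eq_zero_of_isField h] at hdim
    exact absurd hdim (by decide)
  have h1 : (1 : ℕ∞) ≤ LocCoh.depth A A := Alg6.one_le_depth_iff.2 fun hass => by
    obtain ⟨-, z, hz⟩ := Alg6.mem_ass_iff.mp hass
    obtain ⟨b, hb, hb0⟩ := Submodule.exists_mem_ne_zero_of_ne_bot
      (fun hh => hnf (isField_iff_maximalIdeal_eq.mpr hh))
    have h2 := (hz b).1 hb
    rw [smul_eq_mul] at h2
    have hz0 : z = 0 := (mul_eq_zero.1 h2).resolve_left hb0
    exact (maximalIdeal.isMaximal A).ne_top ((Ideal.eq_top_iff_one _).2 ((hz 1).2 (by simp [hz0])))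
  by_contra h2
  have h3 : LocCoh.depth A A = 1 := by
    push Not at h2
    refine le_antisymm (ENat.lt_add_one_iff (by simp) |>.1 ?_) h1
    exact h2
  have := CDiv6.isDVR_of_depth_eq_one A h3
  rw [IsPrincipalIdealRing.ringKrullDim_eq_one A hnf] at hdim
  exact absurd hdim (by decide)

/-- Functions on the punctured spectrum extend, in depth at least two. -/
theorem punctured_bijective (A : Type u) [CommRing A] [IsNoetherianRing A] [IsLocalRing A]
    (h : (2 : ℕ∞) ≤ LocCoh.depth A A) :
    Function.Bijective ((Spec (CommRingCat.of A)).presheaf.map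
      (homOfLE (le_top : FEt.puncturedSpec A ≤ ⊤)).op) := by
  refine Hartogs.spec_bijective A _ fun p hp => ?_
  have hp' : p = closedPoint A := by
    by_contra hne
    exact hp hne
  subst hp'
  have hsub : ((closedPoint A).asIdeal.primeCompl : Submonoid A) ≤ IsUnit.submonoid A := fun x hx =>
    IsLocalRing.notMem_maximalIdeal.1 hx
  let σ : A ≃ₐ[A] Localization.AtPrime (closedPoint A).asIdeal :=
    IsLocalization.atUnits A _ hsub
  rw [← Alg6.depth_eq_of_semilinear σ.toRingEquiv.toRingHom σ.surjective σ.toRingEquiv.toAddEquiv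
    (fun r z => map_mul σ r z)]
  exact h

/-- The punctured spectrum of a factorial domain has trivial Picard group. -/
theorem picTrivial_punctured_of_ufd (A : Type u) [CommRing A] [IsDomain A] [IsLocalRing A]
    [UniqueFactorizationMonoid A] : ParaF.PicTrivial (FEt.puncturedSpec A : Scheme.{u}) :=
  fun L hL => InvUfdLib.nonempty_iso (R := CommRingCat.of A) (FEt.puncturedSpec A) L hL

/-- A factorial Noetherian local ring of dimension at least two is parafactorial. -/
theorem isParafactorial_of_ufd (A : Type u) [CommRing A] [IsDomain A] [IsNoetherianRing A]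
    [IsLocalRing A] [UniqueFactorizationMonoid A] (hdim : (2 : WithBot ℕ∞) ≤ ringKrullDim A) :
    ParaF.IsParafactorialLocalRing A :=
  (isParafactorialLocalRing_iff A).2
    ⟨punctured_bijective A (two_le_depth_of_normal A hdim), picTrivial_punctured_of_ufd A⟩

end Groth.Agent.ParaFX
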