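import Groth.Prelude.Def_ParaF
import Groth.Agent.AModX.Res
import Groth.Agent.PicClLib.Basic

/-!
Modules whose sections do not see a closed subset, and parafactorial pairs.
-/

universe u

open CategoryTheory CategoryTheory.Limits AlgebraicGeometry TopologicalSpace Opposite

set_option linter.style.haveILetI false
set_option linter.unusedSectionVars false

namespace Groth.Agent.ParaFX

open Groth.Agent.AModX

noncomputable section

variable {U V W U' : Scheme.{u}}

/-- Sections over an open and over its trace on the range of `j` agree. -/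
def SectBij (j : U ⟶ V) [IsOpenImmersion j] (M : V.Modules) : Prop :=
  ∀ (O O' : V.Opens) (h : O' ≤ O), O' = O ⊓ j.opensRange → IsIso (M.presheaf.map (homOfLE h).op)

theorem isIso_map_of_eq (M : V.Modules) {O O' : V.Opens} (h : O' ≤ O) (he : O' = O) :
    IsIso (M.presheaf.map (homOfLE h).op) := by
  subst he
  exact inferInstanceAs (IsIso (M.presheaf.map (𝟙 O').op))

theorem map_comp_le (M : V.Modules) {A B C : V.Opens} (h₁ : B ≤ A) (h₂ : C ≤ B) :
    M.presheaf.map (homOfLE (h₂.trans h₁)).op =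
      M.presheaf.map (homOfLE h₁).op ≫ M.presheaf.map (homOfLE h₂).op := by
  rw [← M.presheaf.map_comp]
  rfl

section One

variable (j : U ⟶ V) [IsOpenImmersion j]

theorem sectBij_of_iso {M N : V.Modules} (e : M ≅ N) (h : SectBij j M) : SectBij j N := by
  intro O O' hle hO'
  haveI := h O O' hle hO'
  have hnat := e.hom.mapPresheaf.naturality (homOfLE hle).op
  have : IsIso (e.hom.mapPresheaf.app (op O) ≫ N.presheaf.map (homOfLE hle).op) := by
    rw [← hnat]
    haveI : IsIso (e.hom.mapPresheaf.app (op O')) := inferInstanceAs (IsIso (e.hom.app O'))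
    infer_instance
  haveI : IsIso (e.hom.mapPresheaf.app (op O)) := inferInstanceAs (IsIso (e.hom.app O))
  exact IsIso.of_isIso_comp_left (e.hom.mapPresheaf.app (op O)) _

theorem sectBij_iff_isIso_unit (M : V.Modules) :
    SectBij j M ↔ IsIso ((Scheme.Modules.restrictAdjunction j).unit.app M) := by
  rw [Scheme.Modules.Hom.isIso_iff_isIso_app]
  constructor
  · intro h O
    rw [Scheme.Modules.restrictAdjunction_unit_app_app]
    exact h O _ _ ((j.image_preimage_eq_opensRange_inf O).trans (inf_comm _ _))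
  · intro h O O' hle hO'
    have he : O' = j ''ᵁ j ⁻¹ᵁ O :=
      hO'.trans ((j.image_preimage_eq_opensRange_inf O).trans (inf_comm _ _)).symm
    subst he
    exact h O

/-- For a closed module, morphisms to it are the morphisms on the open. -/
theorem map_bijective {M : V.Modules} (hM : SectBij j M) (N : V.Modules) :
    Function.Bijective (fun φ : N ⟶ M => (Scheme.Modules.restrictFunctor j).map φ) := by
  haveI := (sectBij_iff_isIso_unit j M).1 hM
  have h : (fun φ : N ⟶ M => (Scheme.Modules.restrictFunctor j).map φ) =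
      ((Scheme.Modules.restrictAdjunction j).homEquiv _ _).symm ∘
        (fun φ : N ⟶ M => φ ≫ (Scheme.Modules.restrictAdjunction j).unit.app M) := by
    funext φ
    refine ((Equiv.symm_apply_eq _).2 ?_).symm
    rw [Adjunction.homEquiv_unit]
    exact (Scheme.Modules.restrictAdjunction j).unit.naturality φ
  rw [h]
  exact (Equiv.bijective _).comp ((Iso.homToEquiv (asIso
    ((Scheme.Modules.restrictAdjunction j).unit.app M))).bijective)

theorem sectBij_pushforward (L : U.Modules) :
    SectBij j ((Scheme.Modules.pushforward j).obj L) := by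
  intro O O' h hO'
  rw [Scheme.Modules.pushforward_obj_presheaf_map]
  have he : j ⁻¹ᵁ O' = j ⁻¹ᵁ O := by
    subst hO'
    ext x
    exact ⟨fun hx => hx.1, fun hx => ⟨hx, x, rfl⟩⟩
  exact isIso_map_of_eq L he.le he

/-- A closed module is the direct image of its restriction. -/
def isoPushforward {M : V.Modules} (hM : SectBij j M) :
    M ≅ (Scheme.Modules.pushforward j).obj (M.restrict j) :=
  haveI := (sectBij_iff_isIso_unit j M).1 hM
  asIso ((Scheme.Modules.restrictAdjunction j).unit.app M)

/-- The restriction of a direct image. -/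
def restrictPushforward (L : U.Modules) : ((Scheme.Modules.pushforward j).obj L).restrict j ≅ L :=
  asIso ((Scheme.Modules.restrictAdjunction j).counit.app L)

theorem nonempty_iso_of_restrict {M N : V.Modules} (hM : SectBij j M) (hN : SectBij j N)
    (e : M.restrict j ≅ N.restrict j) : Nonempty (M ≅ N) :=
  ⟨isoPushforward j hM ≪≫ (Scheme.Modules.pushforward j).mapIso e ≪≫ (isoPushforward j hN).symm⟩

/-- Restriction of a closed module is closed. -/
theorem sectBij_restrict {U' : Scheme.{u}} (a : W ⟶ V) [IsOpenImmersion a] (j' : U' ⟶ W)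
    [IsOpenImmersion j'] (hr : j'.opensRange = a ⁻¹ᵁ j.opensRange) {M : V.Modules}
    (hM : SectBij j M) : SectBij j' (M.restrict a) := by
  intro O O' h hO'
  rw [Scheme.Modules.restrict_map]
  refine hM _ _ (a.image_mono h) ?_
  subst hO'
  rw [hr]
  ext x
  constructor
  · rintro ⟨y, ⟨hy, hy'⟩, rfl⟩
    exact ⟨⟨y, hy, rfl⟩, hy'⟩
  · rintro ⟨⟨y, hy, rfl⟩, hy'⟩
    exact ⟨y, ⟨hy, hy'⟩, rfl⟩

/-- Being closed is local. -/
theorem sectBij_of_cover {M : V.Modules} {ι : Type u} (T : ι → V.Opens) (hT : ∀ x, ∃ i, x ∈ T i)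
    (h : ∀ (i : ι) (O O' : V.Opens) (hle : O' ≤ O), O ≤ T i → O' = O ⊓ j.opensRange →
      IsIso (M.presheaf.map (homOfLE hle).op)) : SectBij j M := by
  intro O O' hle hO'
  rw [ConcreteCategory.isIso_iff_bijective]
  have hb {A : V.Opens} (i : ι) (hA : A ≤ T i) :
      Function.Bijective (res M (inf_le_left : A ⊓ j.opensRange ≤ A)) :=
    haveI := h i A _ (inf_le_left : A ⊓ j.opensRange ≤ A) hA rfl
    ConcreteCategory.bijective_of_isIso (M.presheaf.map (homOfLE (inf_le_left : A ⊓ j.opensRange ≤ A)).op)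
  subst hO'
  refine ⟨fun s t hst => ?_, fun t => ?_⟩
  · refine eq_of_locally s t fun p hp => ?_
    obtain ⟨i, hi⟩ := hT p
    refine ⟨O ⊓ T i, inf_le_left, ⟨hp, hi⟩, (hb (A := O ⊓ T i) i inf_le_right).1 ?_⟩
    have hst' : res M (inf_le_left : O ⊓ j.opensRange ≤ O) s = res M inf_le_left t := hst
    rw [res_res, res_res,
      ← res_res (M := M) (inf_le_left : O ⊓ j.opensRange ≤ O)
        (inf_le_inf_right _ inf_le_left : O ⊓ T i ⊓ j.opensRange ≤ O ⊓ j.opensRange) s, hst', res_res]
  · have hsec (i : ι) := (hb (A := O ⊓ T i) i inf_le_right).2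
      (res M (inf_le_inf_right _ inf_le_left : O ⊓ T i ⊓ j.opensRange ≤ O ⊓ j.opensRange) t)
    choose sf hsf using hsec
    obtain ⟨s, hs, -⟩ := existsUnique_glue (M := M) (V := O) (fun i => O ⊓ T i) (fun i => inf_le_left)
      (fun p hp => (hT p).imp fun i hi => ⟨hp, hi⟩) sf fun i k => by
        apply (hb (A := O ⊓ T i ⊓ (O ⊓ T k)) i (inf_le_left.trans inf_le_right)).1
        rw [res_res, res_res,
          ← res_res (M := M) (inf_le_left : O ⊓ T i ⊓ j.opensRange ≤ O ⊓ T i)
            (inf_le_inf_right _ inf_le_left : O ⊓ T i ⊓ (O ⊓ T k) ⊓ j.opensRange ≤ O ⊓ T i ⊓ j.opensRange) (sf i),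
          hsf i,
          ← res_res (M := M) (inf_le_left : O ⊓ T k ⊓ j.opensRange ≤ O ⊓ T k)
            (inf_le_inf_right _ inf_le_right : O ⊓ T i ⊓ (O ⊓ T k) ⊓ j.opensRange ≤ O ⊓ T k ⊓ j.opensRange) (sf k),
          hsf k, res_res, res_res]
    refine ⟨s, ?_⟩
    show res M (inf_le_left : O ⊓ j.opensRange ≤ O) s = t
    refine eq_of_locally _ _ fun p hp => ?_
    obtain ⟨i, hi⟩ := hT p
    refine ⟨O ⊓ T i ⊓ j.opensRange, inf_le_inf_right _ inf_le_left, ⟨⟨hp.1, hi⟩, hp.2⟩, ?_⟩
    rw [res_res, ← hsf i, ← hs i, res_res]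

end One

/-- Global sections as morphisms from the structure module. -/
def homSectionsEquiv (M : V.Modules) : (Coh.structureModule V ⟶ M) ≃ Γ(M, ⊤) :=
  (SheafOfModules.unitHomEquiv.{u} M).trans
    { toFun := fun s => (s.val (op ⊤) : Γ(M, ⊤))
      invFun := fun a => PresheafOfModules.sectionsMk
        (fun T => (M.presheaf.map (homOfLE (le_top : T.unop ≤ ⊤)).op
          (show Γ(M, ⊤) from a) : Γ(M, T.unop)))
        (fun T T' i => by
          refine (ConcreteCategory.congr_hom (M.presheaf.map_comp _ i) _).symm.trans ?_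
          rfl)
      left_inv := fun s => Subtype.ext (funext fun T =>
        PresheafOfModules.sections_property s (homOfLE (le_top : T.unop ≤ ⊤)).op)
      right_inv := fun a => ConcreteCategory.congr_hom (M.presheaf.map_id _) a }

theorem homSectionsEquiv_comp {M N : V.Modules} (φ : Coh.structureModule V ⟶ M) (g : M ⟶ N) :
    homSectionsEquiv N (φ ≫ g) = g.app ⊤ (homSectionsEquiv M φ) := rfl

/-- If morphisms from the structure module do not see the complement, neither do global sections. -/
theorem isIso_map_top_of_bijective (j : U ⟶ V) [IsOpenImmersion j] {M : V.Modules}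
    (h : Function.Bijective
      (fun φ : Coh.structureModule V ⟶ M => (Scheme.Modules.restrictFunctor j).map φ)) :
    IsIso (M.presheaf.map (homOfLE (le_top : j.opensRange ≤ ⊤)).op) := by
  let η := (Scheme.Modules.restrictAdjunction j).unit.app M
  have h1 : Function.Bijective (fun φ : Coh.structureModule V ⟶ M => φ ≫ η) := by
    have : (fun φ : Coh.structureModule V ⟶ M => φ ≫ η) =
        ((Scheme.Modules.restrictAdjunction j).homEquiv _ _) ∘
          (fun φ : Coh.structureModule V ⟶ M => (Scheme.Modules.restrictFunctor j).map φ) := by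
      funext φ
      show φ ≫ η = (Scheme.Modules.restrictAdjunction j).homEquiv _ _ _
      rw [Adjunction.homEquiv_unit]
      exact (Scheme.Modules.restrictAdjunction j).unit.naturality φ
    rw [this]
    exact (Equiv.bijective _).comp h
  have h2 : Function.Bijective (η.app ⊤) := by
    have : ⇑(η.app ⊤) =
        homSectionsEquiv _ ∘ (fun φ : Coh.structureModule V ⟶ M => φ ≫ η) ∘ (homSectionsEquiv M).symm := by
      funext s
      show η.app ⊤ s = homSectionsEquiv _ ((homSectionsEquiv M).symm s ≫ η)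
      rw [homSectionsEquiv_comp, Equiv.apply_symm_apply]
    rw [this]
    exact (Equiv.bijective _).comp (h1.comp (Equiv.bijective _))
  have h3 : IsIso (M.presheaf.map (homOfLE (j.image_preimage_le ⊤)).op) :=
    (ConcreteCategory.isIso_iff_bijective (η.app ⊤)).2 h2
  have he : j.opensRange = j ''ᵁ j ⁻¹ᵁ ⊤ := by
    rw [j.image_preimage_eq_opensRange_inf, inf_top_eq]
  rw [map_comp_le M (j.image_preimage_le ⊤) he.le]
  haveI := isIso_map_of_eq M he.le he
  haveI := h3
  infer_instance

/-- Invertibility passes to isomorphic modules. -/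
theorem isInvertible_of_iso {L L' : V.Modules} (e : L ≅ L') (h : PicF.IsInvertible L) :
    PicF.IsInvertible L' := fun y => by
  obtain ⟨T, hy, ⟨e'⟩⟩ := h y
  exact ⟨T, hy, ⟨((Scheme.Modules.restrictFunctor T.ι).mapIso e).symm ≪≫ e'⟩⟩

theorem isInvertible_restrict (a : W ⟶ V) [IsOpenImmersion a] {L : V.Modules} (h : PicF.IsInvertible L) :
    PicF.IsInvertible (L.restrict a) :=
  isInvertible_of_iso ((Scheme.Modules.restrictFunctorIsoPullback a).app L).symm
    (PicClLib.isInvertible_pullback a h)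

/-- Restricting twice. -/
def restrictTwice {Z : Scheme.{u}} (M : Z.Modules) (f : W ⟶ V) (g : V ⟶ Z)
    [IsOpenImmersion f] [IsOpenImmersion g] : (M.restrict g).restrict f ≅ M.restrict (f ≫ g) :=
  ((Scheme.Modules.restrictFunctorComp f g).app M).symm

/-- Invertibility is local. -/
theorem isInvertible_of_cover {L : V.Modules} {ι : Type*} (T : ι → V.Opens) (hT : ∀ x, ∃ i, x ∈ T i)
    (h : ∀ i, PicF.IsInvertible (L.restrict (T i).ι)) : PicF.IsInvertible L := fun y => by
  obtain ⟨i, hi⟩ := hT y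
  obtain ⟨S, hS, ⟨e⟩⟩ := h i ⟨y, hi⟩
  let b := ((T i).ι.isoImage S).inv
  have hb : (b ≫ S.ι) ≫ (T i).ι = ((T i).ι ''ᵁ S).ι := by simp [b]
  refine ⟨(T i).ι ''ᵁ S, ⟨_, hS, rfl⟩, ⟨?_⟩⟩
  exact ((Scheme.Modules.restrictFunctorCongr hb).app L).symm ≪≫
    (restrictTwice L (b ≫ S.ι) (T i).ι).symm ≪≫ (restrictTwice _ b S.ι).symm ≪≫
    (Scheme.Modules.restrictFunctor b).mapIso e ≪≫ Scheme.Modules.restrictUnitIso b

section Good

/-- Invertible modules on the source extend uniquely, by direct image. -/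
structure Good (j : U ⟶ V) [IsOpenImmersion j] : Prop where
  closed : ∀ L : V.Modules, PicF.IsInvertible L → SectBij j L
  push : ∀ L₀ : U.Modules, PicF.IsInvertible L₀ →
    PicF.IsInvertible ((Scheme.Modules.pushforward j).obj L₀)

theorem Good.invRestrictEquiv {j : U ⟶ V} [IsOpenImmersion j] (h : Good j) :
    ParaF.InvRestrictEquiv j :=
  ⟨fun L L' _ hL' => map_bijective j (h.closed L' hL') L,
    fun L₀ h₀ => ⟨_, h.push L₀ h₀, ⟨restrictPushforward j L₀⟩⟩⟩

/-- The restriction of a direct image along a square with matching ranges. -/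
theorem nonempty_restrict_pushforward_iso (j : U ⟶ V) [IsOpenImmersion j] (a : W ⟶ V)
    [IsOpenImmersion a] (j' : U' ⟶ W) [IsOpenImmersion j'] (b : U' ⟶ U) [IsOpenImmersion b]
    (hsq : b ≫ j = j' ≫ a) (hr : j'.opensRange = a ⁻¹ᵁ j.opensRange) (L₀ : U.Modules) :
    Nonempty (((Scheme.Modules.pushforward j).obj L₀).restrict a ≅
      (Scheme.Modules.pushforward j').obj (L₀.restrict b)) :=
  ⟨isoPushforward j' (sectBij_restrict j a j' hr (sectBij_pushforward j L₀)) ≪≫
    (Scheme.Modules.pushforward j').mapIso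
      (restrictTwice _ j' a ≪≫ ((Scheme.Modules.restrictFunctorCongr hsq).app _).symm ≪≫
        (restrictTwice _ b j).symm ≪≫
        (Scheme.Modules.restrictFunctor b).mapIso (restrictPushforward j L₀))⟩

theorem exists_square (j : U ⟶ V) [IsOpenImmersion j] (a : W ⟶ V) [IsOpenImmersion a] (j' : U' ⟶ W)
    [IsOpenImmersion j'] (hr : j'.opensRange = a ⁻¹ᵁ j.opensRange) :
    ∃ (b : U' ⟶ U) (_ : IsOpenImmersion b), b ≫ j = j' ≫ a := by
  have hsub : Set.range (j' ≫ a) ⊆ Set.range j := by
    rintro _ ⟨z, rfl⟩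
    have : j' z ∈ j'.opensRange := ⟨z, rfl⟩
    rw [hr] at this
    exact this
  haveI : IsOpenImmersion (IsOpenImmersion.lift j (j' ≫ a) hsub ≫ j) := by
    rw [IsOpenImmersion.lift_fac]
    infer_instance
  exact ⟨_, IsOpenImmersion.of_comp _ j, IsOpenImmersion.lift_fac j (j' ≫ a) hsub⟩

theorem Good.transfer {j : U ⟶ V} [IsOpenImmersion j] (h : Good j) (a : W ≅ V) (j' : U' ⟶ W)
    [IsOpenImmersion j'] (hr : j'.opensRange = a.hom ⁻¹ᵁ j.opensRange) : Good j' := by
  obtain ⟨b, hb, hsq⟩ := exists_square j a.hom j' hr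
  refine ⟨fun L hL => ?_, fun L₀ h₀ => ?_⟩
  · refine sectBij_of_iso j' (restrictTwice L a.hom a.inv ≪≫
      (Scheme.Modules.restrictFunctorCongr a.hom_inv_id).app L ≪≫
      Scheme.Modules.restrictFunctorId.app L) ?_
    exact sectBij_restrict j a.hom j' hr (h.closed _ (isInvertible_restrict a.inv hL))
  · haveI : IsIso b := by
      have hsurj : Surjective b := by
        refine ⟨fun x => ?_⟩
        have hx : j x ∈ j.opensRange := ⟨x, rfl⟩
        obtain ⟨w, hw⟩ := (a.hom.homeomorph).surjective (j x)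
        have : w ∈ j'.opensRange := by
          rw [hr]
          show a.hom w ∈ j.opensRange
          rw [show a.hom w = j x from hw]
          exact hx
        obtain ⟨z, rfl⟩ := this
        refine ⟨z, j.isOpenEmbedding.injective ?_⟩
        rw [← Scheme.Hom.comp_apply, hsq]
        exact hw
      haveI := hsurj
      haveI : Epi b.base := (TopCat.epi_iff_surjective _).2 b.surjective
      exact IsOpenImmersion.isIso b
    obtain ⟨e⟩ := nonempty_restrict_pushforward_iso j a.hom j' b hsq hr (L₀.restrict (inv b))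
    refine isInvertible_of_iso (e ≪≫ (Scheme.Modules.pushforward j').mapIso
      (restrictTwice L₀ b (inv b) ≪≫
        (Scheme.Modules.restrictFunctorCongr (IsIso.hom_inv_id b)).app L₀ ≪≫
        Scheme.Modules.restrictFunctorId.app L₀)) ?_
    exact isInvertible_restrict a.hom (h.push _ (isInvertible_restrict (inv b) h₀))

end Good

theorem opensRange_restrict (j : U ⟶ V) [IsOpenImmersion j] (P : V.Opens) :
    (j ∣_ P).opensRange = P.ι ⁻¹ᵁ j.opensRange := by
  ext x
  constructor
  · rintro ⟨z, rfl⟩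
    exact ⟨(j ⁻¹ᵁ P).ι z, (morphismRestrict_base_coe j P z).symm⟩
  · rintro ⟨y, hy⟩
    exact ⟨⟨y, show j y ∈ P from (show j y = x.1 from hy) ▸ x.2⟩,
      Subtype.ext ((morphismRestrict_base_coe j P _).trans hy)⟩

section Pair

variable {X : Scheme.{u}} (Y : Closeds X)

theorem opensRange_homOfLE_compl (T : X.Opens) :
    (X.homOfLE (inf_le_left : T ⊓ Y.compl ≤ T)).opensRange = T.ι ⁻¹ᵁ Y.compl := by
  rw [Scheme.opensRange_homOfLE]
  ext x
  exact ⟨fun h => h.2, fun h => ⟨x.2, h⟩⟩

theorem good_of_pair (h : ParaF.IsParafactorialPair X Y) (T : X.Opens) :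
    Good (X.homOfLE (inf_le_left : T ⊓ Y.compl ≤ T)) := by
  have hclosed : ∀ L : (T : Scheme.{u}).Modules, PicF.IsInvertible L →
      SectBij (X.homOfLE (inf_le_left : T ⊓ Y.compl ≤ T)) L := by
    intro L hL O O' hle hO'
    let T' := T.ι ''ᵁ O
    have hT' : T' ≤ T := T.ι_image_le O
    let a := X.homOfLE hT'
    have hU : ∀ (L' : (T' : Scheme.{u}).Modules), PicF.IsInvertible L' →
        IsIso (L'.presheaf.map
          (homOfLE (le_top : (X.homOfLE (inf_le_left : T' ⊓ Y.compl ≤ T')).opensRange ≤ ⊤)).op) :=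
      fun L' hL' => isIso_map_top_of_bijective _ ((h T').1 _ L'
        (fun x => ⟨⊤, trivial, ⟨Scheme.Modules.restrictUnitIso _⟩⟩) hL')
    have hi := hU (L.restrict a) (isInvertible_restrict a hL)
    rw [Scheme.Modules.restrict_map] at hi
    have e1 : a ''ᵁ ⊤ = O := by
      rw [Scheme.Hom.image_top_eq_opensRange, Scheme.opensRange_homOfLE]
      exact T.ι.preimage_image_eq O
    have e2 : a ''ᵁ (X.homOfLE (inf_le_left : T' ⊓ Y.compl ≤ T')).opensRange = O' := by
      rw [opensRange_homOfLE_compl, hO', opensRange_homOfLE_compl]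
      conv_rhs => rw [← e1]
      ext x
      constructor
      · rintro ⟨y, hy, rfl⟩
        refine ⟨⟨y, trivial, rfl⟩, ?_⟩
        show T.ι (a y) ∈ Y.compl
        rw [← Scheme.Hom.comp_apply, Scheme.homOfLE_ι]
        exact hy
      · rintro ⟨⟨y, -, rfl⟩, hy⟩
        refine ⟨y, ?_, rfl⟩
        show T'.ι y ∈ Y.compl
        have hy' : T.ι (a y) ∈ Y.compl := hy
        rwa [← Scheme.Hom.comp_apply, Scheme.homOfLE_ι] at hy'
    haveI : IsIso (L.presheaf.map (homOfLE e1.le).op) := isIso_map_of_eq L _ e1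
    haveI : IsIso (L.presheaf.map (homOfLE e2.ge).op) := isIso_map_of_eq L _ e2.symm
    haveI := hi
    have key : L.presheaf.map (homOfLE hle).op = L.presheaf.map (homOfLE e1.le).op ≫
        L.presheaf.map (a.opensFunctor.map (homOfLE le_top)).op ≫
          L.presheaf.map (homOfLE e2.ge).op := by
      rw [← L.presheaf.map_comp, ← L.presheaf.map_comp]
      rfl
    rw [key]
    exact IsIso.comp_isIso' inferInstance (IsIso.comp_isIso' hi inferInstance)
  refine ⟨hclosed, fun L₀ h₀ => ?_⟩
  obtain ⟨L, hL, ⟨e⟩⟩ := (h T).2 L₀ h₀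
  exact isInvertible_of_iso (isoPushforward _ (hclosed L hL) ≪≫
    (Scheme.Modules.pushforward _).mapIso e) hL

/-- Parafactorial pairs and open immersions. -/
theorem good_of_openImmersion (h : ParaF.IsParafactorialPair X Y) (v : V ⟶ X) [IsOpenImmersion v]
    (j : U ⟶ V) [IsOpenImmersion j] (hr : j.opensRange = v ⁻¹ᵁ Y.compl) : Good j := by
  refine (good_of_pair Y h v.opensRange).transfer v.isoOpensRange j ?_
  rw [hr, opensRange_homOfLE_compl, ← Scheme.Hom.comp_preimage, Scheme.Hom.isoOpensRange_hom_ι]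

theorem isParafactorialPair_of_good
    (h : ∀ T : X.Opens, Good (X.homOfLE (inf_le_left : T ⊓ Y.compl ≤ T))) :
    ParaF.IsParafactorialPair X Y :=
  fun T => (h T).invRestrictEquiv

theorem compl_closedsIn (S : X.Opens) :
    (ParaF.closedsIn S Y).compl = S.ι ⁻¹ᵁ Y.compl := by
  ext x
  rfl

theorem isParafactorialPair_restrict (h : ParaF.IsParafactorialPair X Y) (S : X.Opens) :
    ParaF.IsParafactorialPair (S : Scheme.{u}) (ParaF.closedsIn S Y) :=
  isParafactorialPair_of_good _ fun T => by
    refine good_of_openImmersion Y h (T.ι ≫ S.ι) _ ?_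
    rw [opensRange_homOfLE_compl, compl_closedsIn, ← Scheme.Hom.comp_preimage]

theorem isParafactorialPair_of_openCover {ι : Type u} (S : ι → X.Opens) (hS : ⨆ i, S i = ⊤)
    (h : ∀ i, ParaF.IsParafactorialPair (S i : Scheme.{u}) (ParaF.closedsIn (S i) Y)) :
    ParaF.IsParafactorialPair X Y := by
  refine isParafactorialPair_of_good _ fun T => ?_
  let j := X.homOfLE (inf_le_left : T ⊓ Y.compl ≤ T)
  let P (i : ι) : (T : Scheme.{u}).Opens := T.ι ⁻¹ᵁ S i
  have hP (x : (T : Scheme.{u})) : ∃ i, x ∈ P i :=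
    (Opens.mem_iSup.1 ((hS ▸ trivial : T.ι x ∈ ⨆ i, S i))).imp fun _ h => h
  have hgood (i : ι) : Good (j ∣_ P i) := by
    have hsub : Set.range ((P i).ι ≫ T.ι) ⊆ Set.range (S i).ι := by
      rintro _ ⟨z, rfl⟩
      rw [Scheme.Opens.range_ι]
      exact z.2
    let v := IsOpenImmersion.lift (S i).ι ((P i).ι ≫ T.ι) hsub
    haveI : IsOpenImmersion (v ≫ (S i).ι) := by
      rw [IsOpenImmersion.lift_fac]
      infer_instance
    haveI : IsOpenImmersion v := IsOpenImmersion.of_comp v (S i).ι
    refine good_of_openImmersion _ (h i) v _ ?_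
    refine (opensRange_restrict j (P i)).trans ?_
    show (P i).ι ⁻¹ᵁ j.opensRange = v ⁻¹ᵁ (ParaF.closedsIn (S i) Y).compl
    rw [compl_closedsIn, show j.opensRange = T.ι ⁻¹ᵁ Y.compl from opensRange_homOfLE_compl Y T,
      ← Scheme.Hom.comp_preimage, ← Scheme.Hom.comp_preimage, IsOpenImmersion.lift_fac]
  refine ⟨fun L hL => ?_, fun L₀ h₀ => ?_⟩
  · refine sectBij_of_cover j P hP fun i O O' hle hO hO' => ?_
    have hi := (hgood i).closed _ (isInvertible_restrict (P i).ι hL)
    let Q := (P i).ι ⁻¹ᵁ O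
    let Q' := (P i).ι ⁻¹ᵁ O'
    have e1 : (P i).ι ''ᵁ Q = O := by
      rw [Scheme.Hom.image_preimage_eq_opensRange_inf, Scheme.Opens.opensRange_ι, inf_eq_right.2 hO]
    have e2 : (P i).ι ''ᵁ Q' = O' := by
      rw [Scheme.Hom.image_preimage_eq_opensRange_inf, Scheme.Opens.opensRange_ι,
        inf_eq_right.2 (hle.trans hO)]
    have hq := hi Q Q' ((P i).ι.preimage_mono hle) (by
      rw [opensRange_restrict, ← Scheme.Hom.preimage_inf, ← hO'])
    rw [Scheme.Modules.restrict_map] at hq
    haveI : IsIso (L.presheaf.map (homOfLE e1.le).op) := isIso_map_of_eq L _ e1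
    haveI : IsIso (L.presheaf.map (homOfLE e2.ge).op) := isIso_map_of_eq L _ e2.symm
    haveI := hq
    have key : L.presheaf.map (homOfLE hle).op = L.presheaf.map (homOfLE e1.le).op ≫
        L.presheaf.map ((P i).ι.opensFunctor.map (homOfLE ((P i).ι.preimage_mono hle))).op ≫
          L.presheaf.map (homOfLE e2.ge).op := by
      rw [← L.presheaf.map_comp, ← L.presheaf.map_comp]
      rfl
    rw [key]
    exact IsIso.comp_isIso' inferInstance (IsIso.comp_isIso' hq inferInstance)
  · refine isInvertible_of_cover P hP fun i => ?_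
    obtain ⟨e⟩ := nonempty_restrict_pushforward_iso j (P i).ι (j ∣_ P i) (j ⁻¹ᵁ P i).ι
      (morphismRestrict_ι j (P i)).symm (opensRange_restrict j (P i)) L₀
    exact isInvertible_of_iso e.symm ((hgood i).push _ (isInvertible_restrict _ h₀))

theorem isParafactorialPair_mono {Y' : Closeds X} (hle : Y' ≤ Y)
    (h : ParaF.IsParafactorialPair X Y) : ParaF.IsParafactorialPair X Y' := by
  refine isParafactorialPair_of_good _ fun T => ?_
  have hc : Y.compl ≤ Y'.compl := fun x hx hx' => hx (hle hx')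
  let k := X.homOfLE (inf_le_inf_left T hc : T ⊓ Y.compl ≤ T ⊓ Y'.compl)
  let j' := X.homOfLE (inf_le_left : T ⊓ Y'.compl ≤ T)
  let j := X.homOfLE (inf_le_left : T ⊓ Y.compl ≤ T)
  have hT := good_of_pair Y h T
  have hk : Good k := good_of_openImmersion Y h (T ⊓ Y'.compl).ι k (by
    rw [Scheme.opensRange_homOfLE]
    ext x
    exact ⟨fun hx => hx.2, fun hx => ⟨x.2.1, hx⟩⟩)
  have hkj : k ≫ j' = j := Scheme.homOfLE_homOfLE ..
  have hclosed' (M : (T : Scheme.{u}).Modules) (hM : SectBij j M) (hMk : SectBij k (M.restrict j')) :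
      SectBij j' M := by
    intro O O' hle' hO'
    have hO : O' = j' ''ᵁ j' ⁻¹ᵁ O := by
      rw [Scheme.Hom.image_preimage_eq_opensRange_inf, hO', inf_comm]
    subst hO
    let O'' := O ⊓ j.opensRange
    have hjr : j.opensRange ≤ j'.opensRange := by
      rintro x ⟨z, rfl⟩
      exact ⟨k z, by rw [← Scheme.Hom.comp_apply, hkj]⟩
    have hO'' : O'' ≤ j' ''ᵁ j' ⁻¹ᵁ O := by
      rw [Scheme.Hom.image_preimage_eq_opensRange_inf]
      exact le_inf (inf_le_right.trans hjr) inf_le_left
    haveI : IsIso (M.presheaf.map (homOfLE (hO''.trans hle')).op) := hM _ _ _ rfl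
    have h2 := hM (j' ''ᵁ j' ⁻¹ᵁ O) O'' hO'' (by
      rw [Scheme.Hom.image_preimage_eq_opensRange_inf, inf_assoc, inf_eq_right.2
        (inf_le_right.trans hjr)])
    haveI := h2
    haveI : IsIso (M.presheaf.map (homOfLE hle').op ≫ M.presheaf.map (homOfLE hO'').op) := by
      rw [← map_comp_le]
      infer_instance
    exact IsIso.of_isIso_comp_right _ (M.presheaf.map (homOfLE hO'').op)
  refine ⟨fun L hL => hclosed' L (hT.closed L hL) (hk.closed _ (isInvertible_restrict j' hL)),
    fun L₀ h₀ => ?_⟩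
  let L := (Scheme.Modules.pushforward j).obj (L₀.restrict k)
  have hL : PicF.IsInvertible L := hT.push _ (isInvertible_restrict k h₀)
  have hLj' : SectBij j' L :=
    hclosed' L (sectBij_pushforward j _) (hk.closed _ (isInvertible_restrict j' hL))
  obtain ⟨e⟩ := nonempty_iso_of_restrict k (hk.closed _ (isInvertible_restrict j' hL)) (hk.closed _ h₀)
    (restrictTwice L k j' ≪≫ (Scheme.Modules.restrictFunctorCongr hkj).app L ≪≫
      restrictPushforward j (L₀.restrict k))
  exact isInvertible_of_iso (isoPushforward j' hLj' ≪≫ (Scheme.Modules.pushforward j').mapIso e) hL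

/-- Restriction is bijective on morphisms of invertible modules when it is so on functions. -/
theorem map_bijective_of_functions (T : X.Opens)
    (h : ∀ O : X.Opens, Function.Bijective (X.presheaf.map (homOfLE (inf_le_left : O ⊓ T ≤ O)).op))
    (L L' : X.Modules) (hL' : PicF.IsInvertible L') :
    Function.Bijective (fun φ : L ⟶ L' => (Scheme.Modules.restrictFunctor T.ι).map φ) := by
  refine map_bijective T.ι ?_ L
  choose P hP e using hL'
  refine sectBij_of_cover T.ι P (fun x => ⟨x, hP x⟩) fun x O O' hle hO hO' => ?_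
  rw [Scheme.Opens.opensRange_ι] at hO'
  subst hO'
  have hstr : IsIso ((Coh.structureModule X).presheaf.map (homOfLE (inf_le_left : O ⊓ T ≤ O)).op) :=
    (ConcreteCategory.isIso_iff_bijective _).2 (h O)
  obtain ⟨e⟩ := e x
  let ι := (P x).ι
  let Q := ι ⁻¹ᵁ O
  let Q' := ι ⁻¹ᵁ (O ⊓ T)
  let f := ι.opensFunctor.map (homOfLE (ι.preimage_mono (inf_le_left : O ⊓ T ≤ O)))
  have e1 : ι ''ᵁ Q = O := by
    rw [Scheme.Hom.image_preimage_eq_opensRange_inf, Scheme.Opens.opensRange_ι, inf_eq_right.2 hO]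
  have e2 : ι ''ᵁ Q' = O ⊓ T := by
    rw [Scheme.Hom.image_preimage_eq_opensRange_inf, Scheme.Opens.opensRange_ι,
      inf_eq_right.2 (inf_le_left.trans hO)]
  have transport (M : X.Modules) :
      IsIso (M.presheaf.map f.op) ↔
        IsIso (M.presheaf.map (homOfLE (inf_le_left : O ⊓ T ≤ O)).op) := by
    haveI : IsIso (M.presheaf.map (homOfLE e1.le).op) := isIso_map_of_eq M _ e1
    haveI : IsIso (M.presheaf.map (homOfLE e2.ge).op) := isIso_map_of_eq M _ e2.symm
    have key : M.presheaf.map (homOfLE (inf_le_left : O ⊓ T ≤ O)).op =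
        M.presheaf.map (homOfLE e1.le).op ≫ M.presheaf.map f.op ≫ M.presheaf.map (homOfLE e2.ge).op := by
      rw [← M.presheaf.map_comp, ← M.presheaf.map_comp]
      rfl
    constructor
    · intro _
      rw [key]
      infer_instance
    · intro h
      rw [key] at h
      haveI := h
      haveI := IsIso.of_isIso_comp_left (M.presheaf.map (homOfLE e1.le).op)
        (M.presheaf.map f.op ≫ M.presheaf.map (homOfLE e2.ge).op)
      exact IsIso.of_isIso_comp_right _ (M.presheaf.map (homOfLE e2.ge).op)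
  have h1 : IsIso (((Coh.structureModule X).restrict ι).presheaf.map
      (homOfLE (ι.preimage_mono (inf_le_left : O ⊓ T ≤ O))).op) := by
    rw [Scheme.Modules.restrict_map]
    exact (transport _).2 hstr
  let e' : L'.restrict ι ≅ (Coh.structureModule X).restrict ι :=
    e ≪≫ (Scheme.Modules.restrictUnitIso ι).symm
  have h2 : IsIso ((L'.restrict ι).presheaf.map
      (homOfLE (ι.preimage_mono (inf_le_left : O ⊓ T ≤ O))).op) := by
    have hnat := e'.hom.mapPresheaf.naturality (homOfLE (ι.preimage_mono (inf_le_left : O ⊓ T ≤ O))).op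
    haveI : IsIso (e'.hom.mapPresheaf.app (op Q)) := inferInstanceAs (IsIso (e'.hom.app Q))
    haveI : IsIso (e'.hom.mapPresheaf.app (op Q')) := inferInstanceAs (IsIso (e'.hom.app Q'))
    haveI := h1
    haveI : IsIso ((L'.restrict ι).presheaf.map
        (homOfLE (ι.preimage_mono (inf_le_left : O ⊓ T ≤ O))).op ≫ e'.hom.mapPresheaf.app (op Q')) := by
      rw [hnat]
      infer_instance
    exact IsIso.of_isIso_comp_right _ (e'.hom.mapPresheaf.app (op Q'))
  rw [Scheme.Modules.restrict_map] at h2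
  exact (transport L').1 h2

end Pair

end

end Groth.Agent.ParaFX
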